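import Cfsg.Agent.H622.KGV.Lin
import Cfsg.Agent.H934.HeisF4Even
import Cfsg.Agent.H934.HeisE7
import Cfsg.Agent.H934.HeisE8

/-!
# Lower bounds for the degrees of `F₄(q)`, `E₇(q)`, `E₈(q)`

For a nontrivial complex representation of the (simple) group, of dimension `n`:
* `f4_odd`: `q ^ 14 ≤ n ^ 2`, `q` odd;
* `f4_even`: `q ^ 7 * (q ^ 3 - 1) ≤ 2 * n`, `q` even;
* `e7`: `q ^ 32 ≤ n ^ 2`; `e8`: `q ^ 56 ≤ n ^ 2`.
-/

set_option autoImplicit false

namespace Cfsg.Agent.H622.KGV.Deg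

open Module Cfsg.Lie Cfsg.Agent.ChevalleyStructure.Elts Cfsg.Agent.H934.HeisSq Cfsg.Agent.H934.HeisChev
  Cfsg.Agent.H934.HeisEC Cfsg.Agent.H934.HeisG Cfsg.Agent.H934.HeisF4G2 Cfsg.Agent.H934.ArfO
  Cfsg.Agent.H934.HeisF4Even Cfsg.Agent.H622.KGV.Lin

universe u

section Gen

variable {D : ChevalleyDatum} (hD : InList D) {F : Type u} [Field F] [Fintype F] {n : ℕ}
  {M : Type*} [AddCommGroup M] [Module ℂ M] [FiniteDimensional ℂ M]

include hD in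
theorem ht_le (T : HT n) (ok : T.Ok D) (he : ∀ i, (T.e i : F) ≠ 0) (hs : IsSimpleGroup ↥(D.group F))
    (ρ : Representation ℂ ↥(D.group F) M) (h : ∃ g, ρ g ≠ 1) : Fintype.card F ^ n ≤ finrank ℂ M ^ 2 := by
  classical
  have : Finite (GL D.Idx F) := inferInstance
  have h1 : xe hD T.th (1 : F) ≠ 1 := fun h1 => one_ne_zero (xe_eq_one hD ok.th_lt h1)
  have h2 := card_le_sq (T.rs hD ok F he).toD0 ρ (a0 := (1 : F)) (Cfsg.Agent.H121.Chr.faithful ρ h h1)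
  rwa [Nat.card_fun, Nat.card_eq_fintype_card (α := F), Nat.card_eq_fintype_card (α := Fin n), Fintype.card_fin] at h2

/-- forget the acting roots -/
def toHT {k : ℕ} (T : HTab n k) : HT n := ⟨T.S, T.th, T.opp, T.e, T.p⟩

theorem toHT_ok {k : ℕ} {T : HTab n k} (ok : T.Ok D) : (toHT T).Ok D where
  S_lt := ok.S_lt
  th_lt := ok.th_lt
  th_ne := ok.th_ne
  S_ne := ok.S_ne
  opp_ne := ok.opp_ne
  opp_opp := ok.opp_opp
  p_lt := ok.p_lt
  p_th := ok.p_th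

include hD in
theorem htab_le {k : ℕ} (T : HTab n k) (ok : T.Ok D) (hs : IsSimpleGroup ↥(D.group F))
    (ρ : Representation ℂ ↥(D.group F) M) (h : ∃ g, ρ g ≠ 1) : Fintype.card F ^ n ≤ finrank ℂ M ^ 2 :=
  ht_le hD (toHT T) (toHT_ok ok) (fun i => cast_ne_zero (ok.e_sq i)) hs ρ h

end Gen

section

variable {F : Type u} [Field F] [Fintype F] {M : Type*} [AddCommGroup M] [Module ℂ M] [FiniteDimensional ℂ M]

theorem e7 (hs : IsSimpleGroup ↥(chevE7.group F)) (ρ : Representation ℂ ↥(chevE7.group F) M) (h : ∃ g, ρ g ≠ 1) :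
    Fintype.card F ^ 32 ≤ finrank ℂ M ^ 2 :=
  htab_le Cfsg.Agent.H934.HeisE7.hD Cfsg.Agent.H934.HeisE7.tab Cfsg.Agent.H934.HeisE7.tab_ok hs ρ h

theorem e8 (hs : IsSimpleGroup ↥(chevE8.group F)) (ρ : Representation ℂ ↥(chevE8.group F) M) (h : ∃ g, ρ g ≠ 1) :
    Fintype.card F ^ 56 ≤ finrank ℂ M ^ 2 :=
  htab_le Cfsg.Agent.H934.HeisE8.hD Cfsg.Agent.H934.HeisE8.tab Cfsg.Agent.H934.HeisE8.tab_ok hs ρ h

theorem f4_odd (h2 : (2 : F) ≠ 0) (hs : IsSimpleGroup ↥(chevF4.group F)) (ρ : Representation ℂ ↥(chevF4.group F) M)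
    (h : ∃ g, ρ g ≠ 1) : Fintype.card F ^ 14 ≤ finrank ℂ M ^ 2 := by
  refine ht_le hF4 tabF tabF_ok ?_ hs ρ h
  have h : ∀ i, tabF.e i = 1 ∨ tabF.e i = -1 ∨ tabF.e i = 2 ∨ tabF.e i = -2 := by decide
  intro i
  rcases h i with h | h | h | h <;> rw [h]
  · simp
  · simp
  · exact_mod_cast h2
  · push_cast
    exact neg_ne_zero.2 h2

theorem f4_even [CharP F 2] (hs : IsSimpleGroup ↥(chevF4.group F)) (ρ : Representation ℂ ↥(chevF4.group F) M)
    (h : ∃ g, ρ g ≠ 1) : Fintype.card F ^ 7 * (Fintype.card F ^ 3 - 1) ≤ 2 * finrank ℂ M := by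
  classical
  have : Finite (GL chevF4.Idx F) := inferInstance
  let lam : (sgh F).range →* ℂˣ := (mu (bt (0 : F) 0 0 0 0 0)).comp (sgh F).range.subtype
  have hl : lam ≠ 1 := by
    intro h
    obtain ⟨x, hx⟩ := exists_T_one F
    have h1 : lam ⟨sg 6 x, x, rfl⟩ = 1 := by rw [h]; rfl
    have h2 : lam ⟨sg 6 x, x, rfl⟩ = mu (bt (0 : F) 0 0 0 0 0) (sg 6 x) := rfl
    rw [h2, mu_sg] at h1
    have h3 : bt (0 : F) 0 0 0 0 0 6 * x = x := one_mul x
    rw [h3, hx] at h1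
    exact one_ne_zero (ch_inj (b := 0) (h1.trans (map_one ch).symm))
  have hi6 : ∀ a, ii F (sgh F a) = xe hF4 47 (Multiplicative.toAdd a) := fun a => ii_sg 6 _
  have h47 : ρ (ii F (sgh F (Multiplicative.ofAdd 1))) ≠ 1 := by
    rw [hi6]
    exact Cfsg.Agent.H121.Chr.faithful ρ h fun h1 => one_ne_zero (xe_eq_one hF4 tabL_ok.th_lt h1)
  obtain ⟨μ0, hμ0, hw0⟩ := exists_lam ρ (ii F) (sgh F).range (by
    rintro _ ⟨a, rfl⟩ _ ⟨b, rfl⟩ ha hb
    rw [hi6, hi6]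
    refine z_isConj0 hF4 tabL_ok.th_lt tabL_ok.p_lt tabL_ok.p_th _ _ ?_ ?_
    · rintro h0
      apply ha
      have : a = 1 := h0
      rw [this, map_one]
    · rintro h0
      apply hb
      have : b = 1 := h0
      rw [this, map_one]) lam hl ⟨_, rfl⟩ h47
  obtain ⟨β, rfl⟩ := mu_surjective μ0
  have h6 : β 6 = 1 := by
    refine T_ext fun v => ch_inj ?_
    have h1 := hμ0 ⟨sg 6 v, v, rfl⟩
    have h2 : lam ⟨sg 6 v, v, rfl⟩ = mu (bt (0 : F) 0 0 0 0 0) (sg 6 v) := rfl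
    rw [h2, mu_sg] at h1
    exact h1.trans (mu_sg _ 6 v)
  set q := Fintype.card F with hq
  have hq1 : 1 < q := Fintype.one_lt_card
  -- the size
  have hw1 : q ^ 4 ≤ w ρ (ii F) (mu β) := by
    obtain ⟨x, hx⟩ := exists_T_one F
    have h1 := sq_ge ρ (ii F) hw0 (Cg ext) (iC ext) (coe_iC ext) (cm ext) (hypE ext (a0 := x) (by
      show mu β (sg 6 x) ≠ 1
      rw [mu_sg, h6, one_mul, hx]
      intro h1
      exact one_ne_zero (ch_inj (b := 0) (h1.trans (map_one ch).symm))))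
    rw [card_Cg, Nat.card_fun, Nat.card_eq_fintype_card (α := Fin 8), Fintype.card_fin,
      Nat.card_eq_fintype_card (α := F), ← hq] at h1
    have h2 : q ^ 8 ≤ w ρ (ii F) (mu β) ^ 2 := Nat.le_of_mul_le_mul_right h1 Nat.card_pos
    have h3 : (q ^ 4) ^ 2 ≤ w ρ (ii F) (mu β) ^ 2 := by
      calc (q ^ 4) ^ 2 = q ^ 8 := by ring
        _ ≤ _ := h2
    exact (Nat.pow_le_pow_iff_left (by norm_num)).1 h3
  -- the orbit
  set ε : ZMod 2 := T (β 0 * β 5) + T (β 1 * β 4) + T (β 2 * β 3) with hε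
  let f : (Fin 3 → F) × (Fin 3 → F) → (EE F →* ℂˣ) := fun p =>
    mu (bt (p.1 0) (p.2 0) (p.1 1) (p.2 1) (p.1 2) (p.2 2))
  have hf : Function.Injective f := by
    rintro ⟨b, c⟩ ⟨b', c'⟩ h
    have h1 := mu_injective h
    have h2 : ∀ k, bt (b 0) (c 0) (b 1) (c 1) (b 2) (c 2) k = bt (b' 0) (c' 0) (b' 1) (c' 1) (b' 2) (c' 2) k :=
      fun k => congrFun h1 k
    refine Prod.ext (funext fun k => ?_) (funext fun k => ?_)
    · fin_cases k
      · exact h2 0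
      · exact h2 1
      · exact h2 2
    · fin_cases k
      · exact h2 5
      · exact h2 4
      · exact h2 3
  set S := Finset.univ.filter fun p : (Fin 3 → F) × (Fin 3 → F) => T (∑ k, p.1 k * p.2 k) = ε with hS
  have h1 := sum_le ρ (ii F) (S.image f)
  have h2 : ∀ μ ∈ S.image f, w ρ (ii F) μ = w ρ (ii F) (mu β) := by
    intro μ hμ
    rw [Finset.mem_image] at hμ
    obtain ⟨p, hp, rfl⟩ := hμ
    rw [hS, Finset.mem_filter] at hp
    rw [eq_bt h6]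
    refine w_eq (fun g φ hφ μ => w_conj ρ (ii F) g φ hφ μ) ?_
    rw [← hε, ← hp.2, Fin.sum_univ_three, map_add, map_add]
  rw [Finset.sum_congr rfl h2, Finset.sum_const, smul_eq_mul, Finset.card_image_of_injective _ hf] at h1
  have h3 := count (F := F) ε
  have h4 : (Finset.univ.filter fun p : (Fin 3 → F) × (Fin 3 → F) => T (∑ k, p.1 k * p.2 k) = ε).card = S.card := by
    congr
  rw [h4, ← hq] at h3
  calc q ^ 7 * (q ^ 3 - 1) = (q ^ 3 - 1) * q ^ 3 * q ^ 4 := by ring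
    _ ≤ 2 * S.card * q ^ 4 := Nat.mul_le_mul_right _ h3
    _ = 2 * (S.card * q ^ 4) := by ring
    _ ≤ 2 * (S.card * w ρ (ii F) (mu β)) := Nat.mul_le_mul_left _ (Nat.mul_le_mul_left _ hw1)
    _ ≤ _ := Nat.mul_le_mul_left _ h1

end

end Cfsg.Agent.H622.KGV.Deg
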