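import Cfsg.Agent.H121.Chr
import Cfsg.Agent.H934.HeisEC

/-!
# Lower bounds for the dimension of a complex representation

`i : E →* X` an abelian subgroup, `w ρ i μ` the dimension of the space of vectors on which `E` acts by `μ`.

* `sum_le`: the sum over distinct `μ` is at most the dimension;
* `exists_lam`: a subgroup `Z` of `E` all of whose nonidentity elements are conjugate and which acts nontrivially has
  all its nontrivial characters, in suitable `μ`;
* `w_conj`: conjugation;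
* `sq_ge`: `|C| ≤ |E| (w μ)²` if `C` centralizes `E` and commutators in `C` give a nondegenerate form.
-/

set_option autoImplicit false

namespace Cfsg.Agent.H622.KGV.Lin

open Module Cfsg.Agent.H121.Wt Cfsg.Agent.H934.HeisG Cfsg.Agent.H934.HeisSq Cfsg.Agent.H934.HeisEC

section Basic

variable {E : Type*} [CommGroup E]

/-- a character as an additive character -/
def ach (μ : E →* ℂˣ) : AddChar (Additive E) ℂ where
  toFun a := (μ a.toMul : ℂ)
  map_zero_eq_one' := by
    rw [toMul_zero, map_one, Units.val_one]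
  map_add_eq_mul' a b := by
    rw [toMul_add, map_mul, Units.val_mul]

theorem ach_apply (μ : E →* ℂˣ) (a : Additive E) : ach μ a = (μ a.toMul : ℂ) := rfl

theorem ach_injective : Function.Injective (ach (E := E)) := by
  intro μ μ' h
  ext e
  exact DFunLike.congr_fun h (Additive.ofMul e)

/-- an additive character as a character -/
def hom (χ : AddChar (Additive E) ℂ) : E →* ℂˣ :=
  MonoidHom.toHomUnits
    { toFun := fun e => χ (Additive.ofMul e)
      map_one' := by rw [ofMul_one, AddChar.map_zero_eq_one]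
      map_mul' := fun a b => by rw [ofMul_mul, AddChar.map_add_eq_mul] }

theorem hom_apply (χ : AddChar (Additive E) ℂ) (e : E) : (hom χ e : ℂ) = χ (Additive.ofMul e) := rfl

theorem ach_hom (χ : AddChar (Additive E) ℂ) : ach (hom χ) = χ := by
  apply DFunLike.ext
  intro a
  rw [ach_apply, hom_apply, ofMul_toMul]

end Basic

section Rep

variable {X : Type*} [Group X] {E : Type*} [CommGroup E] {V : Type*} [AddCommGroup V] [Module ℂ V]
  (ρ : Representation ℂ X V) (i : E →* X)

/-- the action of `E` -/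
def R : Additive E → Module.End ℂ V := fun a => ρ (i a.toMul)

theorem isAct : IsAct (R ρ i) :=
  isAct_of ρ (x := fun a : Additive E => i a.toMul) fun a b => by rw [toMul_add, map_mul]

/-- the dimension of the weight space -/
noncomputable def w (μ : E →* ℂˣ) : ℕ := finrank ℂ (wt (R ρ i) (ach μ))

theorem mem_wt_ach {μ : E →* ℂˣ} {v : V} : v ∈ wt (R ρ i) (ach μ) ↔ ∀ e, ρ (i e) v = (μ e : ℂ) • v :=
  ⟨fun h e => h (Additive.ofMul e), fun h a => h a.toMul⟩

variable [FiniteDimensional ℂ V]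

theorem w_ne_zero {μ : E →* ℂˣ} : w ρ i μ ≠ 0 ↔ ∃ v : V, v ≠ 0 ∧ ∀ e, ρ (i e) v = (μ e : ℂ) • v := by
  unfold w
  rw [Ne, Submodule.finrank_eq_zero, ← Ne, Submodule.ne_bot_iff]
  constructor
  · rintro ⟨v, hv, hv0⟩
    exact ⟨v, hv0, (mem_wt_ach ρ i).1 hv⟩
  · rintro ⟨v, hv0, hv⟩
    exact ⟨v, (mem_wt_ach ρ i).2 hv, hv0⟩

theorem w_le (μ : E →* ℂˣ) : w ρ i μ ≤ finrank ℂ V := Submodule.finrank_le _

theorem sum_le [Finite E] (O : Finset (E →* ℂˣ)) : ∑ μ ∈ O, w ρ i μ ≤ finrank ℂ V := by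
  classical
  have := Fintype.ofFinite (Additive E)
  rw [← sum_finrank (isAct ρ i)]
  calc ∑ μ ∈ O, w ρ i μ = ∑ χ ∈ O.image ach, finrank ℂ (wt (R ρ i) χ) := by
        rw [Finset.sum_image fun x _ y _ hxy => ach_injective hxy]
        rfl
    _ ≤ _ := Finset.sum_le_sum_of_subset (Finset.subset_univ _)

/-- a nontrivial element acting nontrivially -/
theorem exists_w [Finite E] {e0 : E} (h : ρ (i e0) ≠ 1) : ∃ μ : E →* ℂˣ, w ρ i μ ≠ 0 ∧ μ e0 ≠ 1 := by
  have := Fintype.ofFinite (Additive E)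
  obtain ⟨χ, hχ, h1⟩ := Cfsg.Agent.H121.Chr.exists_wt (isAct ρ i) (a := Additive.ofMul e0) h
  refine ⟨hom χ, ?_, ?_⟩
  · unfold w
    rw [ach_hom, Ne, Submodule.finrank_eq_zero]
    exact hχ
  · intro h2
    apply h1
    rw [← hom_apply, h2, Units.val_one]

theorem w_conj (g : X) (φ : E ≃* E) (h : ∀ e, i (φ e) = g * i e * g⁻¹) (μ : E →* ℂˣ) :
    w ρ i (μ.comp φ.toMonoidHom) = w ρ i μ := by
  unfold w
  refine finrank_wt_eq ρ (x := fun a : Additive E => i a.toMul) (g := g)
    (f := fun a => Additive.ofMul (φ a.toMul)) ?_ ?_ ?_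
  · intro a
    show g * i a.toMul = i (φ a.toMul) * g
    rw [h, inv_mul_cancel_right]
  · exact (Additive.toMul.trans (φ.toEquiv.trans Additive.ofMul)).bijective
  · intro a
    rfl

/-- all nontrivial characters of `Z` occur -/
theorem exists_lam [Finite E] (Z : Subgroup E)
    (hZ : ∀ z ∈ Z, ∀ z' ∈ Z, z ≠ 1 → z' ≠ 1 → IsConj (i z) (i z')) (lam : Z →* ℂˣ) (hl : lam ≠ 1)
    {z0 : E} (hz0 : z0 ∈ Z) (h0 : ρ (i z0) ≠ 1) : ∃ μ : E →* ℂˣ, (∀ z : Z, μ z = lam z) ∧ w ρ i μ ≠ 0 := by
  classical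
  have := Fintype.ofFinite (Additive Z)
  have hz01 : z0 ≠ 1 := by
    rintro rfl
    apply h0
    rw [map_one, map_one]
  -- the characters of `Z`
  set j : Z →* X := i.comp Z.subtype with hj
  have htr : ∀ a : Additive Z, a ≠ 0 → LinearMap.trace ℂ V (R ρ j a) = LinearMap.trace ℂ V (ρ (i z0)) := by
    intro a ha
    have h1 : ((a.toMul : Z) : E) ≠ 1 := by
      intro h1
      apply ha
      have h2 : (a.toMul : Z) = 1 := Subtype.ext h1
      exact Additive.toMul.injective h2
    obtain ⟨g, hg⟩ := isConj_iff.1 (hZ _ (a.toMul : Z).2 _ hz0 h1 hz01)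
    show LinearMap.trace ℂ V (ρ (i ((a.toMul : Z) : E))) = _
    rw [← hg, map_mul ρ, map_mul ρ, LinearMap.trace_mul_comm, ← mul_assoc, ← map_mul ρ, inv_mul_cancel, map_one ρ,
      one_mul]
  have hform : ∀ χ : AddChar (Additive Z) ℂ, χ ≠ 0 → (finrank ℂ (wt (R ρ j) χ) : ℂ) =
      (Fintype.card (Additive Z) : ℂ)⁻¹ * ((finrank ℂ V : ℂ) - LinearMap.trace ℂ V (ρ (i z0))) := by
    intro χ hχ
    rw [finrank_eq_sum (isAct ρ j)]
    congr 1
    have h1 : ∀ a : Additive Z, χ (-a) * LinearMap.trace ℂ V (R ρ j a) =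
        χ (-a) * LinearMap.trace ℂ V (ρ (i z0)) +
          (if a = 0 then ((finrank ℂ V : ℂ) - LinearMap.trace ℂ V (ρ (i z0))) else 0) := by
      intro a
      by_cases ha : a = 0
      · subst ha
        rw [if_pos rfl, neg_zero, AddChar.map_zero_eq_one, one_mul, one_mul, (isAct ρ j).zero, LinearMap.trace_one]
        ring
      · rw [if_neg ha, htr a ha, add_zero]
    rw [Finset.sum_congr rfl fun a _ => h1 a, Finset.sum_add_distrib, ← Finset.sum_mul]
    have h2 : ∑ a : Additive Z, χ (-a) = 0 := by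
      rw [Fintype.sum_equiv (Equiv.neg _) (fun a => χ (-a)) (fun a => χ a) fun a => rfl]
      have h3 := AddChar.sum_eq_ite χ
      rwa [if_neg hχ] at h3
    rw [h2, zero_mul, zero_add, Finset.sum_ite_eq' Finset.univ (0 : Additive Z), if_pos (Finset.mem_univ _)]
  obtain ⟨χ, hχ, hχ1⟩ := Cfsg.Agent.H121.Chr.exists_wt (isAct ρ j) (a := Additive.ofMul (⟨z0, hz0⟩ : Z)) h0
  have hχ0 : χ ≠ 0 := by
    rintro rfl
    exact hχ1 (by rw [AddChar.zero_apply])
  have hl0 : ach lam ≠ 0 := by
    intro h1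
    apply hl
    ext z
    have h2 := DFunLike.congr_fun h1 (Additive.ofMul z)
    rw [AddChar.zero_apply] at h2
    exact h2
  have hne : finrank ℂ (wt (R ρ j) (ach lam)) ≠ 0 := by
    intro h1
    apply hχ
    rw [← Submodule.finrank_eq_zero (R := ℂ)]
    have h2 := hform _ hl0
    have h3 := hform _ hχ0
    rw [← h2, h1] at h3
    exact_mod_cast h3
  rw [Ne, Submodule.finrank_eq_zero, ← Ne, Submodule.ne_bot_iff] at hne
  obtain ⟨v, hv, hv0⟩ := hne
  -- a weight of `E` in this space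
  have := Fintype.ofFinite (Additive E)
  obtain ⟨ψ, hψ⟩ : ∃ ψ : AddChar (Additive E) ℂ, pr (R ρ i) ψ v ≠ 0 := by
    by_contra hcon
    push Not at hcon
    apply hv0
    have h1 : (∑ χ : AddChar (Additive E) ℂ, pr (R ρ i) χ) v = v := by
      rw [sum_pr (isAct ρ i), Module.End.one_apply]
    rw [← h1, LinearMap.sum_apply]
    exact Finset.sum_eq_zero fun χ _ => hcon χ
  have hmem : ∀ e, ρ (i e) (pr (R ρ i) ψ v) = (hom ψ e : ℂ) • pr (R ρ i) ψ v := fun e =>
    pr_mem (isAct ρ i) ψ v (Additive.ofMul e)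
  refine ⟨hom ψ, fun z => ?_, (w_ne_zero ρ i).2 ⟨_, hψ, hmem⟩⟩
  have h1 : ρ (i z) (pr (R ρ i) ψ v) = (lam z : ℂ) • pr (R ρ i) ψ v := by
    rw [pr_apply, map_smul, map_sum, smul_comm (lam z : ℂ), Finset.smul_sum, Finset.smul_sum, Finset.smul_sum]
    refine Finset.sum_congr rfl fun a _ => ?_
    rw [map_smul, smul_comm (lam z : ℂ)]
    congr 2
    have h2 : R ρ i a v = ρ (i a.toMul) v := rfl
    rw [h2, ← Module.End.mul_apply, ← map_mul, ← map_mul, mul_comm, map_mul, map_mul, Module.End.mul_apply,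
      ← map_smul]
    congr 1
    exact (mem_wt_ach ρ j).1 hv z
  rw [hmem] at h1
  exact Units.ext (smul_left_injective ℂ hψ h1)

end Rep

/-! ### Linear independence of operators -/

section Ind

variable {C : Type*} [Group C] [Finite C] {W : Type*} [AddCommGroup W] [Module ℂ W] [FiniteDimensional ℂ W]

/-- A representation whose character vanishes outside of `N` has dimension at least `√|C : N|`. -/
theorem index_le (hW : 0 < finrank ℂ W) (T : C → Module.End ℂ W) (h1 : T 1 = 1) (hT : ∀ x y, T (x * y) = T x * T y)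
    (N : Subgroup C) (h : ∀ x, x ∉ N → LinearMap.trace ℂ W (T x) = 0) : N.index ≤ finrank ℂ W ^ 2 := by
  classical
  have := Fintype.ofFinite (C ⧸ N)
  have hli : LinearIndependent ℂ fun c : C ⧸ N => T c.out := by
    rw [Fintype.linearIndependent_iff]
    intro a ha c
    have h2 : LinearMap.trace ℂ W (T (c.out)⁻¹ * ∑ c' : C ⧸ N, a c' • T c'.out) = 0 := by
      rw [ha, mul_zero, map_zero]
    rw [Finset.mul_sum, map_sum, Finset.sum_eq_single c] at h2
    · rw [mul_smul_comm, ← hT, inv_mul_cancel, h1, map_smul, LinearMap.trace_one, smul_eq_mul] at h2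
      rcases mul_eq_zero.1 h2 with h3 | h3
      · exact h3
      · exfalso
        have : finrank ℂ W = 0 := by exact_mod_cast h3
        omega
    · intro c' _ hc'
      rw [mul_smul_comm, ← hT, map_smul, h, smul_zero]
      intro h3
      apply hc'
      rw [← QuotientGroup.out_eq' c, ← QuotientGroup.out_eq' c']
      exact (QuotientGroup.eq.2 h3).symm
    · intro h3
      exact absurd (Finset.mem_univ _) h3
  have h2 := hli.fintype_card_le_finrank
  rw [Module.finrank_linearMap, ← Nat.card_eq_fintype_card] at h2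
  rw [Subgroup.index, pow_two]
  exact h2

end Ind

section Sq

variable {X : Type*} [Group X] {E : Type*} [CommGroup E] [Finite E] {V : Type*} [AddCommGroup V] [Module ℂ V]
  [FiniteDimensional ℂ V] (ρ : Representation ℂ X V) (i : E →* X)

omit [Finite E] in
theorem sq_ge {μ : E →* ℂˣ} (hμ : w ρ i μ ≠ 0) (C : Subgroup X) [Finite C] (iC : E →* C)
    (hi : ∀ e, (iC e : X) = i e) (cm : C → C → E) (h : HypE iC μ cm) :
    Nat.card C ≤ w ρ i μ ^ 2 * Nat.card E := by
  classical
  have hmap : ∀ x : C, ∀ v ∈ wt (R ρ i) (ach μ), ρ (x : X) v ∈ wt (R ρ i) (ach μ) := by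
    intro x v hv
    rw [mem_wt_ach] at hv ⊢
    intro e
    have h1 : i e * (x : X) = (x : X) * i e := by
      rw [← hi]
      exact congrArg Subtype.val (h.central e x).symm
    rw [← Module.End.mul_apply, ← map_mul, h1, map_mul, Module.End.mul_apply, hv, map_smul]
  let T : C → Module.End ℂ (wt (R ρ i) (ach μ)) := fun x => (ρ (x : X)).restrict (hmap x)
  have hT1 : T 1 = 1 := by
    apply LinearMap.ext
    intro v
    apply Subtype.ext
    show ρ (((1 : C) : X)) (v : V) = (v : V)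
    rw [Subgroup.coe_one, map_one, Module.End.one_apply]
  have hT : ∀ x y, T (x * y) = T x * T y := by
    intro x y
    apply LinearMap.ext
    intro v
    apply Subtype.ext
    show ρ (((x * y : C) : X)) (v : V) = ρ (x : X) (ρ (y : X) (v : V))
    rw [Subgroup.coe_mul, map_mul, Module.End.mul_apply]
  have hTi : ∀ e, T (iC e) = (μ e : ℂ) • 1 := by
    intro e
    apply LinearMap.ext
    intro v
    apply Subtype.ext
    show ρ ((iC e : C) : X) (v : V) = (μ e : ℂ) • (v : V)
    rw [hi]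
    exact (mem_wt_ach ρ i).1 v.2 e
  have htr : ∀ x, x ∉ iC.range → LinearMap.trace ℂ _ (T x) = 0 := by
    intro x hx
    obtain ⟨y, hy⟩ := h.nondeg x hx
    have h1 : x * y * x⁻¹ * y⁻¹ = iC (cm x y) := h.comm x y
    have h2 : T x * T y * T x⁻¹ * T y⁻¹ = (μ (cm x y) : ℂ) • 1 := by
      rw [← hT, ← hT, ← hT, h1, hTi]
    have h3 : T y⁻¹ * T y = 1 := by rw [← hT, inv_mul_cancel, hT1]
    have h3' : T y * T y⁻¹ = 1 := by rw [← hT, mul_inv_cancel, hT1]
    have h4 : T x⁻¹ * T x = 1 := by rw [← hT, inv_mul_cancel, hT1]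
    have h5 : T x * T y = (μ (cm x y) : ℂ) • (T y * T x) := by
      calc T x * T y = T x * T y * (T x⁻¹ * T x) := by rw [h4, mul_one]
        _ = T x * T y * (T x⁻¹ * (T y⁻¹ * T y) * T x) := by rw [h3, mul_one]
        _ = (T x * T y * T x⁻¹ * T y⁻¹) * (T y * T x) := by simp only [mul_assoc]
        _ = _ := by rw [h2, smul_mul_assoc, one_mul]
    have h6 : LinearMap.trace ℂ _ (T x) = (μ (cm x y) : ℂ) * LinearMap.trace ℂ _ (T x) := by
      calc LinearMap.trace ℂ _ (T x) = LinearMap.trace ℂ _ (T x * (T y * T y⁻¹)) := by rw [h3', mul_one]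
        _ = LinearMap.trace ℂ _ ((μ (cm x y) : ℂ) • (T y * (T x * T y⁻¹))) := by
          rw [← mul_assoc, h5, smul_mul_assoc, mul_assoc]
        _ = (μ (cm x y) : ℂ) * LinearMap.trace ℂ _ (T x * T y⁻¹ * T y) := by
          rw [map_smul, smul_eq_mul, LinearMap.trace_mul_comm]
        _ = _ := by rw [mul_assoc, h3, mul_one]
    by_contra hne
    apply hy
    apply Units.ext
    rw [Units.val_one]
    have h7 : (1 : ℂ) * LinearMap.trace ℂ _ (T x) = (μ (cm x y) : ℂ) * LinearMap.trace ℂ _ (T x) := by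
      rw [one_mul]; exact h6
    exact (mul_right_cancel₀ hne h7).symm
  have hpos : 0 < finrank ℂ (wt (R ρ i) (ach μ)) := Nat.pos_of_ne_zero hμ
  have h1 := index_le hpos T hT1 hT iC.range htr
  have h2 : Nat.card iC.range = Nat.card E := Nat.card_congr (MonoidHom.ofInjective h.inj).symm.toEquiv
  rw [← Subgroup.index_mul_card iC.range, h2]
  exact Nat.mul_le_mul_right _ h1

end Sq

/-! ### Special groups -/

section Special

variable {Γ V A : Type*} [Group Γ] [AddCommGroup V] [AddCommGroup A] (D : D0 Γ V A)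

/-- the centre -/
def iz : Multiplicative A →* Γ where
  toFun a := D.z a.toAdd
  map_one' := D.z_zero
  map_mul' _ _ := D.z_add _ _

theorem iz_ext : Ext D (iz D) (fun a => Multiplicative.ofAdd a) where
  inj := by
    rw [injective_iff_map_eq_one]
    intro a ha
    exact D.z_inj _ ha
  i_j := fun a => rfl
  X_i := fun v e => D.X_z v _

theorem card_le_sq [Finite Γ] [Finite A] {M : Type*} [AddCommGroup M] [Module ℂ M] [FiniteDimensional ℂ M]
    (ρ : Representation ℂ Γ M) {a0 : A} (h : ρ (D.z a0) ≠ 1) : Nat.card V ≤ finrank ℂ M ^ 2 := by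
  classical
  have : Finite (Multiplicative A) := inferInstanceAs (Finite A)
  have hne : a0 ≠ 0 := by
    rintro rfl
    apply h
    rw [D.z_zero, map_one]
  have : Nontrivial A := ⟨a0, 0, hne⟩
  obtain ⟨μ, hμ, h1⟩ := exists_w ρ (iz D) (e0 := Multiplicative.ofAdd a0) h
  have hE := hypE (iz_ext D) (μ := μ) (a0 := a0) h1
  have h2 := sq_ge ρ (iz D) hμ (Cg (iz_ext D)) (iC (iz_ext D)) (coe_iC (iz_ext D)) (cm (iz_ext D)) hE
  rw [card_Cg] at h2
  have h3 : Nat.card V ≤ w ρ (iz D) μ ^ 2 := Nat.le_of_mul_le_mul_right h2 Nat.card_pos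
  exact h3.trans (Nat.pow_le_pow_left (w_le ρ (iz D) μ) 2)

end Special

end Cfsg.Agent.H622.KGV.Lin
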